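import Mathlib
import Groth.Agent.Lib.Helper8.SepBaseChange
import Groth.Agent.Lib.Helper8.Japanese.SepGR
import Groth.Agent.Lib.Helper8.RigPt.Basic
import Groth.Agent.Lib.Helper8.Hens.IntegralHens

/-!
# `R₀ ⊗_k kˢ` for a henselian normal local `k`-algebra with residue field `k` (helper8; S13417)
-/

set_option autoImplicit false
set_option linter.style.haveILetI false
universe u
open TensorProduct IsLocalRing

namespace Groth.Agent.H8.SepClTensor

theorem isIntegrallyClosed_of_localization_maximalIdeal (B : Type u) [CommRing B] [IsLocalRing B]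
    (h : IsIntegrallyClosed (Localization.AtPrime (maximalIdeal B))) : IsIntegrallyClosed B := by
  let e : B ≃ₐ[B] Localization.AtPrime (maximalIdeal B) :=
    IsLocalization.atUnits B (maximalIdeal B).primeCompl (fun x hx => by
      by_contra hnu
      exact hx ((IsLocalRing.mem_maximalIdeal x).mpr hnu))
  exact IsIntegrallyClosed.of_equiv e.symm.toRingEquiv

theorem main (k : Type u) [Field k] (R₀ : Type u) [CommRing R₀] [IsDomain R₀]
    [HenselianLocalRing R₀] [Algebra k R₀] [IsIntegrallyClosed R₀] (hdim : ringKrullDim R₀ = 2)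
    (hres : Function.Surjective (fun a : k => IsLocalRing.residue R₀ (algebraMap k R₀ a)))
    [IsDomain (R₀ ⊗[k] SeparableClosure k)] :
    ∃ _ : HenselianLocalRing (R₀ ⊗[k] SeparableClosure k),
      IsIntegrallyClosed (R₀ ⊗[k] SeparableClosure k) ∧
      ringKrullDim (R₀ ⊗[k] SeparableClosure k) = 2 ∧
      Function.Surjective (fun a : SeparableClosure k =>
        IsLocalRing.residue (R₀ ⊗[k] SeparableClosure k)
          ((Algebra.TensorProduct.includeRight :
            SeparableClosure k →ₐ[k] R₀ ⊗[k] SeparableClosure k) a)) := by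
  haveI : Algebra.IsIntegral k (SeparableClosure k) := inferInstance
  haveI : Algebra.IsIntegral R₀ (R₀ ⊗[k] SeparableClosure k) := inferInstance
  haveI hloc : IsLocalRing (R₀ ⊗[k] SeparableClosure k) :=
    Groth.Agent.H8.Hens.isLocalRing_of_isDomain_of_isIntegral R₀ (R₀ ⊗[k] SeparableClosure k)
  have hH : HenselianLocalRing (R₀ ⊗[k] SeparableClosure k) :=
    Groth.Agent.H8.Hens.henselianLocalRing_of_isIntegral R₀ (R₀ ⊗[k] SeparableClosure k)
  have hinj : Function.Injective (@algebraMap R₀ (R₀ ⊗[k] SeparableClosure k) _ _ Algebra.TensorProduct.leftAlgebra) := by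
    have h := Algebra.TensorProduct.includeLeft_injective (R := k) (S := R₀) (A := R₀)
      (B := SeparableClosure k) (algebraMap k (SeparableClosure k)).injective
    intro x y hxy
    apply h
    simpa [Algebra.TensorProduct.algebraMap_apply] using hxy
  haveI : FaithfulSMul R₀ (R₀ ⊗[k] SeparableClosure k) :=
    (faithfulSMul_iff_algebraMap_injective R₀ (R₀ ⊗[k] SeparableClosure k)).mpr hinj
  haveI : IsLocalHom (@algebraMap R₀ (R₀ ⊗[k] SeparableClosure k) _ _ Algebra.TensorProduct.leftAlgebra) :=
    Algebra.IsIntegral.isLocalHom R₀ (R₀ ⊗[k] SeparableClosure k)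
  have hq : (maximalIdeal (R₀ ⊗[k] SeparableClosure k)).comap
      (@algebraMap R₀ (R₀ ⊗[k] SeparableClosure k) _ _ Algebra.TensorProduct.leftAlgebra) = maximalIdeal R₀ :=
    IsLocalRing.maximalIdeal_comap _
  refine ⟨hH, ?_, ?_, ?_⟩
  · haveI : Algebra.IsGeometricallyReduced k (SeparableClosure k) :=
      Groth.Agent.H8.Jap.isGeometricallyReduced_of_isSeparable k _
    let e₀ : R₀ ≃ₐ[R₀] Localization.AtPrime (maximalIdeal R₀) :=
      IsLocalization.atUnits R₀ (maximalIdeal R₀).primeCompl (fun x hx => by
        by_contra hnu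
        exact hx ((IsLocalRing.mem_maximalIdeal x).mpr hnu))
    haveI : IsDomain (Localization.AtPrime (maximalIdeal R₀)) :=
      e₀.symm.toRingEquiv.toMulEquiv.isDomain _
    haveI : IsIntegrallyClosed (Localization.AtPrime (maximalIdeal R₀)) :=
      IsIntegrallyClosed.of_equiv e₀.toRingEquiv
    obtain ⟨h3, h4⟩ := Groth.Agent.H8.SepBC.normal_localization_tensor k R₀ (SeparableClosure k)
      (maximalIdeal (R₀ ⊗[k] SeparableClosure k)) (maximalIdeal R₀) hq
    exact isIntegrallyClosed_of_localization_maximalIdeal (R₀ ⊗[k] SeparableClosure k) h4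
  · rw [Groth.Agent.H8.RigPt.ringKrullDim_eq_of_integral_injective R₀ (R₀ ⊗[k] SeparableClosure k) hinj, hdim]
  · intro y
    obtain ⟨b, rfl⟩ := IsLocalRing.residue_surjective y
    induction b using TensorProduct.induction_on with
    | zero => exact ⟨0, by simp⟩
    | tmul r c =>
      obtain ⟨a, ha⟩ := hres (residue R₀ r)
      have hd : r - algebraMap k R₀ a ∈ maximalIdeal R₀ := by
        rw [← IsLocalRing.residue_eq_zero_iff, map_sub]
        exact sub_eq_zero.mpr ha.symm
      have hdB : @algebraMap R₀ (R₀ ⊗[k] SeparableClosure k) _ _ Algebra.TensorProduct.leftAlgebra (r - algebraMap k R₀ a) ∈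
          maximalIdeal (R₀ ⊗[k] SeparableClosure k) := by
        have h := hd
        rw [← hq] at h
        exact h
      have heq : r ⊗ₜ[k] c = (Algebra.TensorProduct.includeRight :
            SeparableClosure k →ₐ[k] R₀ ⊗[k] SeparableClosure k) (a • c) +
          @algebraMap R₀ (R₀ ⊗[k] SeparableClosure k) _ _ Algebra.TensorProduct.leftAlgebra (r - algebraMap k R₀ a) *
            (Algebra.TensorProduct.includeRight :
              SeparableClosure k →ₐ[k] R₀ ⊗[k] SeparableClosure k) c := by
        rw [Algebra.TensorProduct.includeRight_apply, Algebra.TensorProduct.includeRight_apply,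
          Algebra.TensorProduct.algebraMap_apply, Algebra.TensorProduct.tmul_mul_tmul, mul_one,
          one_mul, TensorProduct.tmul_smul, TensorProduct.smul_tmul', ← TensorProduct.add_tmul]
        congr 1
        rw [Algebra.algebraMap_self_apply, Algebra.algebraMap_eq_smul_one]
        abel
      refine ⟨a • c, ?_⟩
      show residue _ _ = residue _ _
      have h0 := (IsLocalRing.residue_eq_zero_iff (R := R₀ ⊗[k] SeparableClosure k) _).mpr hdB
      rw [heq, map_add, map_mul, h0, zero_mul, add_zero]
    | add x y hx hy =>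
      obtain ⟨a, ha⟩ := hx
      obtain ⟨b, hb⟩ := hy
      refine ⟨a + b, ?_⟩
      show residue _ _ = residue _ _
      rw [map_add, map_add, map_add]
      exact congrArg₂ (· + ·) ha hb

end Groth.Agent.H8.SepClTensor
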